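import Mathlib
import Cfsg.Agent.S11.Defs
import Cfsg.Agent.S11.SingA
import Cfsg.Agent.S11.SingB
import Cfsg.Agent.SG.KTop
import Cfsg.Agent.Cl.LinearBasic
import Cfsg.Agent.Cl.MaxBasic

set_option autoImplicit false

namespace Cfsg.Agent.S11

open Matrix Cfsg.Geo Cfsg.Agent.Cl.D5 Module
open scoped MatrixGroups ComplexConjugate commutatorElement

variable {F : Type*} [Field F] [Fintype F]

local notation "M11" => Matrix (Fin 11) (Fin 11) F
local notation "SL11" => specialLinear (Fin 11) F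
local notation "Z11" => scalars (Fin 11) F
local notation "GL11" => GL (Fin 11) F

omit [Fintype F] in
theorem c3_range : (SpecialLinearGroup.toGL : SpecialLinearGroup (Fin 11) F →* GL11).range = SL11 := by
  ext g
  constructor
  · rintro ⟨y, rfl⟩
    exact Units.ext (by simp)
  · intro hg
    have h : (g : M11).det = 1 := by
      have := congrArg Units.val (show GeneralLinearGroup.det g = 1 from hg)
      simpa using this
    exact ⟨⟨g, h⟩, Units.ext rfl⟩

omit [Fintype F] in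
theorem c3_perf : ⁅(SL11 : Subgroup GL11), SL11⁆ = SL11 := by
  have h := Cl.sl_commutator_eq_top (ι := Fin 11) (F := F) (Or.inl (by simp))
  rw [← c3_range, MonoidHom.range_eq_map, ← Subgroup.map_commutator, ← commutator_def, h]

theorem c3_card : Fintype.card F ^ 2 ∣ Nat.card (SL11 : Subgroup GL11) := by
  rw [← c3_range, ← Nat.card_congr (MonoidHom.ofInjective SpecialLinearGroup.toGL_injective).toEquiv,
    Cl.card_sl, Nat.card_eq_fintype_card (α := F)]
  exact (pow_dvd_pow _ (by simp)).mul_right _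

theorem c3_num {q : ℕ} (hq : 2 ≤ q) : ¬ q ^ 2 ∣ 11 * th q := fun h => by
  have h1 : Nat.Coprime q (th q) := by
    have : th q = 1 + q * (q ^ 9 + q ^ 8 + q ^ 7 + q ^ 6 + q ^ 5 + q ^ 4 + q ^ 3 + q ^ 2 + q + 1) := by unfold th; ring
    rw [this, Nat.coprime_add_mul_left_right]
    exact Nat.coprime_one_right q
  have h2 := (h1.pow_left 2).dvd_of_dvd_mul_right h
  have h3 : q ≤ 3 := by
    have := Nat.le_of_dvd (by norm_num) h2
    nlinarith
  interval_cases q <;> omega

omit [Fintype F] in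
theorem c3_split {M : Subgroup GL11} {g : GL11} (hg : g ∈ M ⊔ Z11) :
    ∃ m ∈ M, ∃ z ∈ Z11, g = m * z := by
  have : (Z11 : Subgroup GL11).Normal := ⟨fun z hz g => by
    rwa [← Cl.Max.mul_comm_of_mem_scalars hz g, mul_inv_cancel_right]⟩
  obtain ⟨m, hm, z, hz, e⟩ := (Subgroup.mem_sup_of_normal_right).1 hg
  exact ⟨m, hm, z, hz, e.symm⟩

omit [Fintype F] in
theorem c3_comm {M : Subgroup GL11} : ⁅M ⊔ Z11, M ⊔ Z11⁆ ≤ M := by
  refine Subgroup.commutator_le.2 fun g hg h hh => ?_
  obtain ⟨m, hm, z, hz, rfl⟩ := c3_split hg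
  obtain ⟨n, hn, w, hw, rfl⟩ := c3_split hh
  have h1 := Cl.Max.mul_comm_of_mem_scalars hz
  have h2 := Cl.Max.mul_comm_of_mem_scalars hw
  have : ⁅m * z, n * w⁆ = ⁅m, n⁆ := by
    simp only [commutatorElement_def, _root_.mul_inv_rev]
    calc m * z * (n * w) * (z⁻¹ * m⁻¹) * (w⁻¹ * n⁻¹)
        = m * (z * (n * w)) * z⁻¹ * (m⁻¹ * w⁻¹) * n⁻¹ := by group
      _ = m * n * (w * m⁻¹) * w⁻¹ * n⁻¹ := by rw [h1]; group
      _ = _ := by rw [h2]; group
  rw [this, commutatorElement_def]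
  exact M.mul_mem (M.mul_mem (M.mul_mem hm hn) (M.inv_mem hm)) (M.inv_mem hn)

theorem sl_field {K : Subalgebra F M11} (hK : IsFieldSubalgebra 11 K) :
    IsMaximalIn SL11 (subalgebraNormalizer K ⊓ SL11) := by
  obtain ⟨S, h⟩ := exists_sing hK
  refine ⟨lt_of_le_of_ne inf_le_right fun e => ?_, fun M h1 h2 => ?_⟩
  · have := c3_card (F := F)
    rw [← e, h.cardN] at this
    exact c3_num Fintype.one_lt_card this
  rcases h.twoT h1 h2 with h3 | h3
  · exact .inl (le_antisymm (le_inf h3 h2) h1)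
  refine .inr (le_antisymm h2 ?_)
  have s : SL11 ≤ M ⊔ Z11 := SG.ck_top (by norm_num) le_rfl le_sup_right (fun a b a' b' i i' => by
    obtain ⟨g, hg, k⟩ := h3 a b a' b' i i'
    exact ⟨g, Subgroup.mem_sup_left hg, k⟩) hK fun s k2 k1 => by
    by_cases hz : s ∈ Z11
    · exact Subgroup.mem_sup_right hz
    · exact Subgroup.mem_sup_left (h1 ⟨h.norm s k1 hz s (by rwa [mul_inv_cancel_right]), k2⟩)
  exact c3_perf.symm.le.trans ((Subgroup.commutator_mono s s).trans c3_comm)

end Cfsg.Agent.S11
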