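import Mathlib
import Cfsg.Agent.S11.Defs

set_option autoImplicit false

namespace Cfsg.Agent.S11

open Matrix Cfsg.Geo Cfsg.Agent.Cl.D5 Module
open scoped MatrixGroups ComplexConjugate commutatorElement

theorem TID.chf_norm {G : Type*} [Group G] [Finite G] {S : Subgroup G} {m : ℕ} (h : TID S m)
    {s : G} (hs : s ∈ S) (s1 : s ≠ 1) {g : G} (hg : g * s * g⁻¹ ∈ S) :
    g ∈ Subgroup.normalizer (S : Set G) := by
  refine Subgroup.mem_normalizer_fintype fun x hx => h.cent _ hg (fun e => s1 ?_) _ ?_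
  · calc s = g⁻¹ * (g * s * g⁻¹) * g := by group
      _ = 1 := by rw [e]; group
  · calc g * x * g⁻¹ * (g * s * g⁻¹) = g * (x * s) * g⁻¹ := by group
      _ = g * s * g⁻¹ * (g * x * g⁻¹) := by rw [h.comm x hx s hs]; group

theorem TID.chf_cent {G : Type*} [Group G] {S : Subgroup G} {m : ℕ} (h : TID S m)
    {s : G} (hs : s ∈ S) (s1 : s ≠ 1) : Subgroup.centralizer ({s} : Set G) = S :=
  le_antisymm (fun g hg => h.cent s hs s1 g (Subgroup.mem_centralizer_singleton_iff.1 hg))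
    fun g hg => Subgroup.mem_centralizer_singleton_iff.2 (h.comm g hg s hs)

theorem TID.fusion {G : Type*} [Group G] [Finite G] {S : Subgroup G} {m : ℕ} (h : TID S m) :
    ∃ n : Fin 11 → G, (∀ k, n k ∈ Subgroup.normalizer (S : Set G)) ∧ n 0 = 1 ∧
      (∀ g ∈ Subgroup.normalizer (S : Set G), ∃ k, ∃ s ∈ S, g = n k * s) ∧
      (∀ s ∈ S, s ≠ 1 → Function.Injective fun k => n k * s * (n k)⁻¹) ∧
      ∀ s ∈ S, s ≠ 1 → ∀ g : G, g * s * g⁻¹ ∈ S → g ∈ Subgroup.normalizer (S : Set G) := by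
  classical
  set N := Subgroup.normalizer (S : Set G) with hN
  have hle : S ≤ N := Subgroup.le_normalizer
  have hc : Nat.card (N ⧸ S.subgroupOf N) = 11 := by
    have h1 := Subgroup.card_eq_card_quotient_mul_card_subgroup (S.subgroupOf N)
    rw [Nat.card_congr (Subgroup.subgroupOfEquivOfLe hle).toEquiv, h.idx, h.card] at h1
    have h2 : 0 < m := h.card ▸ Nat.card_pos
    exact (Nat.eq_of_mul_eq_mul_right h2 h1).symm
  let e0 := Finite.equivFinOfCardEq hc
  let e : Fin 11 ≃ (N ⧸ S.subgroupOf N) := (Equiv.swap 0 (e0 (QuotientGroup.mk 1))).trans e0.symm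
  have he : e 0 = QuotientGroup.mk 1 := by simp [e]
  let r : (N ⧸ S.subgroupOf N) → N := fun q => if q = QuotientGroup.mk 1 then 1 else q.out
  have hr : ∀ q, (QuotientGroup.mk (r q) : N ⧸ S.subgroupOf N) = q := fun q => by
    by_cases hq : q = QuotientGroup.mk 1
    · simp only [r, if_pos hq]; exact hq.symm
    · simp only [r, if_neg hq]; exact q.out_eq
  refine ⟨fun k => r (e k), fun k => (r (e k)).2, ?_, fun g hg => ?_, fun s hs s1 k j hkj => ?_,
    fun s hs s1 g hg => h.chf_norm hs s1 hg⟩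
  · simp only [he, r, if_true]; rfl
  · refine ⟨e.symm (QuotientGroup.mk ⟨g, hg⟩), ((r (QuotientGroup.mk ⟨g, hg⟩) : N) : G)⁻¹ * g, ?_, ?_⟩
    · exact Subgroup.mem_subgroupOf.1 (QuotientGroup.eq.1 (hr (QuotientGroup.mk ⟨g, hg⟩)))
    · simp only [Equiv.apply_symm_apply, mul_inv_cancel_left]
  · have h1 : ((r (e j) : N) : G)⁻¹ * r (e k) ∈ S := by
      refine h.cent s hs s1 _ ?_
      have hkj' : ((r (e k) : N) : G) * s * ((r (e k) : N) : G)⁻¹ =
        ((r (e j) : N) : G) * s * ((r (e j) : N) : G)⁻¹ := hkj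
      calc ((r (e j) : N) : G)⁻¹ * r (e k) * s
          = ((r (e j) : N) : G)⁻¹ * (((r (e k) : N) : G) * s * ((r (e k) : N) : G)⁻¹) * r (e k) := by group
        _ = s * (((r (e j) : N) : G)⁻¹ * r (e k)) := by rw [hkj']; group
    have h2 : (QuotientGroup.mk (r (e j)) : N ⧸ S.subgroupOf N) = QuotientGroup.mk (r (e k)) :=
      QuotientGroup.eq.2 (Subgroup.mem_subgroupOf.2 h1)
    rw [hr, hr] at h2
    exact (e.injective h2).symm

theorem TID.sum_irr {G : Type*} [Group G] [Fintype G] {S : Subgroup G} [Fintype S] {m : ℕ}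
    (h : TID S m) {n : Fin 11 → G} (h1 : ∀ k, n k ∈ Subgroup.normalizer (S : Set G))
    (h2 : ∀ g ∈ Subgroup.normalizer (S : Set G), ∃ k, ∃ s ∈ S, g = n k * s)
    (h3 : ∀ s ∈ S, s ≠ 1 → Function.Injective fun k => n k * s * (n k)⁻¹)
    (θ ψ : G → ℂ) (h0 : θ 1 = 0) :
    ∑ χ : IrrCharacter G, (∑ s : S, θ s * conj (χ.1 s)) * conj (∑ s : S, ψ s * conj (χ.1 s)) =
      (m : ℂ) * ∑ k, ∑ s : S, θ s * conj (ψ (n k * s * (n k)⁻¹)) := by
  have e1 : ∀ χ : IrrCharacter G,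
      (∑ s : S, θ s * conj (χ.1 s)) * conj (∑ s : S, ψ s * conj (χ.1 s)) =
        ∑ s : S, ∑ s' : S, θ s * (conj (ψ s') * (χ.1 s' * conj (χ.1 s))) := fun χ => by
    rw [map_sum, Finset.sum_mul_sum]
    refine Finset.sum_congr rfl fun s _ => Finset.sum_congr rfl fun s' _ => ?_
    rw [map_mul, Complex.conj_conj]; ring
  rw [Finset.sum_congr rfl fun χ _ => e1 χ, Finset.sum_comm, Finset.sum_comm (s := Finset.univ (α := Fin 11)),
    Finset.mul_sum]
  refine Finset.sum_congr rfl fun s _ => ?_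
  by_cases s1 : (s : G) = 1
  · simp [s1, h0]
  rw [Finset.sum_comm, Finset.mul_sum]
  have hm : ∀ k, n k * s * (n k)⁻¹ ∈ S := fun k => (Subgroup.mem_normalizer_iff.1 (h1 k) s).1 s.2
  symm
  refine Fintype.sum_of_injective (fun k => (⟨n k * s * (n k)⁻¹, hm k⟩ : S))
    (fun k j e => h3 s s.2 s1 (congrArg Subtype.val e)) _ _ (fun s' hs' => ?_) fun k => ?_
  · rw [← Finset.mul_sum, ← Finset.mul_sum, Ch.column_orthogonality_of_not_isConj, mul_zero, mul_zero]
    intro hc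
    obtain ⟨g, hg⟩ := isConj_iff.1 hc.symm
    obtain ⟨k, x, hx, rfl⟩ := h2 g (h.chf_norm s.2 s1 (hg ▸ s'.2))
    refine hs' ⟨k, Subtype.ext ?_⟩
    rw [← hg]
    show n k * s * (n k)⁻¹ = n k * x * s * (n k * x)⁻¹
    rw [mul_assoc (n k) x, h.comm x hx s s.2]; group
  · have hne : n k * s * (n k)⁻¹ ≠ 1 := fun e => s1 (by
      calc (s : G) = (n k)⁻¹ * (n k * s * (n k)⁻¹) * n k := by group
        _ = 1 := by rw [e]; group)
    rw [← Finset.mul_sum, ← Finset.mul_sum,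
      Ch.column_orthogonality_of_isConj (isConj_iff.2 ⟨n k, rfl⟩ : IsConj (s : G) _).symm,
      h.chf_cent (hm k) hne, h.card]
    ring

end Cfsg.Agent.S11
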