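import Mathlib
import Cfsg.Agent.S11.Defs
import Cfsg.Agent.S11.ChF
import Cfsg.Agent.Ch.Linear
import Cfsg.Agent.Ch.Decomp

set_option autoImplicit false

namespace Cfsg.Agent.S11

open Matrix Cfsg.Geo Cfsg.Agent.Cl.D5 Module Cfsg.Agent.Ch
open scoped MatrixGroups ComplexConjugate commutatorElement

/-- Orbit representatives for a free action off a fixed point. -/
theorem chd_orb {Λ : Type*} [Finite Λ] (x0 : Λ) (act : Fin 11 → Λ → Λ) (h0 : ∀ x, act 0 x = x)
    (h1 : ∀ k x, ∃ l, act l (act k x) = x) (h2 : ∀ j k x, ∃ l, act j (act k x) = act l x) (h3 : ∀ k, act k x0 = x0)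
    (h4 : ∀ x, x ≠ x0 → Function.Injective fun k => act k x) :
    ∃ (t : ℕ) (rep : Fin t → Λ), Function.Bijective fun o : Option (Fin t × Fin 11) =>
      o.elim x0 fun p => act p.2 (rep p.1) := by
  classical
  let r : Setoid Λ := ⟨fun x y => ∃ k, act k x = y, fun x => ⟨0, h0 x⟩, by
    rintro x _ ⟨k, rfl⟩
    exact h1 k x, by
    rintro x _ _ ⟨k, rfl⟩ ⟨j, rfl⟩
    exact (h2 j k x).imp fun _ e => e.symm⟩
  let e := (Finite.equivFin {q : Quotient r // q ≠ Quotient.mk r x0}).symm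
  have mk : ∀ i k, Quotient.mk r (act k (e i).1.out) = (e i).1 := fun i k =>
    (Quotient.sound (s := r) ⟨k, rfl⟩).symm.trans (Quotient.out_eq _)
  have ne : ∀ i k, act k (e i).1.out ≠ x0 := fun i k h => (e i).2 (by rw [← mk i k, h])
  refine ⟨_, fun i => (e i).1.out, ?_, fun x => ?_⟩
  · rintro (_ | ⟨i, k⟩) (_ | ⟨j, l⟩) h
    · rfl
    · exact absurd h.symm (ne j l)
    · exact absurd h (ne i k)
    · have h' : act k (e i).1.out = act l (e j).1.out := h
      obtain rfl : i = j := e.injective (Subtype.ext (by rw [← mk i k, h', mk]))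
      obtain rfl : k = l := h4 _ (h0 (e i).1.out ▸ ne i 0) h'
      rfl
  · by_cases h : x = x0
    · exact ⟨none, h.symm⟩
    · have hq : Quotient.mk r x ≠ Quotient.mk r x0 := fun k => by
        obtain ⟨l, hl⟩ := Quotient.exact k.symm
        exact h (hl.symm.trans (h3 l))
      obtain ⟨i, hi⟩ := e.surjective ⟨_, hq⟩
      obtain ⟨k, hk⟩ : r (e i).1.out x := Quotient.exact (by rw [Quotient.out_eq, hi])
      exact ⟨some (i, k), hk⟩

section

variable {G : Type*} [Group G] [Fintype G] {S : Subgroup G} [Fintype S]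

/-- The multiplicity of a linear character of `S` in a restriction. -/
noncomputable def chdM (χ : IrrCharacter G) (f : S →* ℂˣ) : ℕ :=
  ((χ.isCharacter.restrict S).exists_nat_classInner (isCharacter_monoidHom_units f)).choose

theorem chdM_eq (χ : IrrCharacter G) (f : S →* ℂˣ) :
    classInner (fun s : S => χ.1 s) (fun s => (f s : ℂ)) = chdM χ f :=
  ((χ.isCharacter.restrict S).exists_nat_classInner (isCharacter_monoidHom_units f)).choose_spec

theorem chdM_sum (χ : IrrCharacter G) (f : S →* ℂˣ) :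
    ∑ s : S, χ.1 s * conj (f s : ℂ) = (Nat.card S : ℂ) * chdM χ f := by
  rw [← chdM_eq, card_mul_classInner]

theorem chdM_sum' (χ : IrrCharacter G) (f : S →* ℂˣ) :
    ∑ s : S, (f s : ℂ) * conj (χ.1 s) = (Nat.card S : ℂ) * chdM χ f := by
  have := congrArg conj (chdM_sum χ f)
  rw [map_sum, map_mul, map_natCast, map_natCast] at this
  rw [← this]
  exact Finset.sum_congr rfl fun s _ => by rw [map_mul, Complex.conj_conj, mul_comm]

/-- The conjugate of a linear character. -/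
def chdA (g : Subgroup.normalizer (S : Set G)) (f : S →* ℂˣ) : S →* ℂˣ :=
  f.comp (S.normalizerMonoidHom g).toMonoidHom

omit [Fintype G] [Fintype S] in
theorem chdA_apply (g : Subgroup.normalizer (S : Set G)) (f : S →* ℂˣ) (s s' : S)
    (h : (s' : G) = g * s * (g : G)⁻¹) : chdA g f s = f s' := congrArg f (Subtype.ext h.symm)

theorem chdM_act (χ : IrrCharacter G) (g : Subgroup.normalizer (S : Set G)) (f : S →* ℂˣ) :
    chdM χ (chdA g f) = chdM χ f := by
  refine Nat.cast_injective (R := ℂ) ?_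
  rw [← chdM_eq, ← chdM_eq, ← classInner_comp_mulEquiv (S.normalizerMonoidHom g) _ (fun s => (f s : ℂ))]
  congr 1
  funext s
  exact (χ.isClassFunction.conj_eq s g).symm

theorem chd_reg (n : IrrCharacter G → ℕ) (d : ℕ) (h1 : ∀ s ∈ S, s ≠ 1 → ∑ χ, (n χ : ℂ) * χ.1 s = 0)
    (h2 : ∑ χ, (n χ : ℂ) * χ.1 1 = (d : ℂ) * Nat.card S) (f : S →* ℂˣ) : ∑ χ, n χ * chdM χ f = d := by
  refine Nat.cast_injective (R := ℂ) (mul_left_cancel₀ (natCard_ne_zero S) ?_)
  have e : ∀ χ : IrrCharacter G, (Nat.card S : ℂ) * ((n χ : ℂ) * chdM χ f) =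
      ∑ s : S, (n χ : ℂ) * χ.1 s * conj (f s : ℂ) := fun χ => by
    rw [mul_left_comm, ← chdM_sum, Finset.mul_sum]
    exact Finset.sum_congr rfl fun s _ => (mul_assoc _ _ _).symm
  push_cast
  rw [Finset.mul_sum, Finset.sum_congr rfl fun χ _ => e χ, Finset.sum_comm,
    Finset.sum_eq_single (1 : S) (fun s _ hs => by
      rw [← Finset.sum_mul, h1 s s.2 (fun k => hs (Subtype.ext k)), zero_mul]) (by simp), ← Finset.sum_mul]
  simp only [OneMemClass.coe_one, map_one, Units.val_one, mul_one]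
  rw [h2, mul_comm]

open Classical in
theorem TID.chd_sq {m : ℕ} (h : TID S m) {n : Fin 11 → G} (h1 : ∀ k, n k ∈ Subgroup.normalizer (S : Set G))
    (h2 : ∀ g ∈ Subgroup.normalizer (S : Set G), ∃ k, ∃ s ∈ S, g = n k * s)
    (h3 : ∀ s ∈ S, s ≠ 1 → Function.Injective fun k => n k * s * (n k)⁻¹) (f f' : S →* ℂˣ) :
    ∑ χ : IrrCharacter G, ((chdM χ f : ℤ) - chdM χ f') ^ 2 =
      ∑ k, ((if f = chdA ⟨n k, h1 k⟩ f then 1 else 0) - (if f = chdA ⟨n k, h1 k⟩ f' then 1 else 0) -
        ((if f' = chdA ⟨n k, h1 k⟩ f then 1 else 0) - (if f' = chdA ⟨n k, h1 k⟩ f' then 1 else 0)) : ℤ) := by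
  let θ : G → ℂ := fun g => if hg : g ∈ S then (f ⟨g, hg⟩ : ℂ) - f' ⟨g, hg⟩ else 0
  have hθ : ∀ s : S, θ s = (f s : ℂ) - f' s := fun s => dif_pos s.2
  have k := h.sum_irr h1 h2 h3 θ θ (by simpa using hθ 1)
  have hm := natCard_ne_zero S
  have e1 : ∀ χ : IrrCharacter G, ∑ s : S, θ s * conj (χ.1 s) =
      (Nat.card S : ℂ) * (((chdM χ f : ℤ) - chdM χ f' : ℤ) : ℂ) := fun χ => by
    simp only [hθ, sub_mul, Finset.sum_sub_distrib, chdM_sum']
    push_cast
    ring
  have o : ∀ a b : S →* ℂˣ, ∑ s : S, (a s : ℂ) * conj (b s : ℂ) = (Nat.card S : ℂ) * if a = b then 1 else 0 :=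
    fun a b => by rw [← card_mul_classInner, classInner_monoidHom_units]
  have e2 : ∀ j, ∑ s : S, θ s * conj (θ (n j * s * (n j)⁻¹)) = (Nat.card S : ℂ) *
      (((if f = chdA ⟨n j, h1 j⟩ f then 1 else 0) - (if f = chdA ⟨n j, h1 j⟩ f' then 1 else 0) -
        ((if f' = chdA ⟨n j, h1 j⟩ f then 1 else 0) - (if f' = chdA ⟨n j, h1 j⟩ f' then 1 else 0)) : ℤ) : ℂ) := fun j => by
    have e : ∀ s : S, θ (n j * s * (n j)⁻¹) = (chdA ⟨n j, h1 j⟩ f s : ℂ) - chdA ⟨n j, h1 j⟩ f' s := fun s =>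
      hθ (S.normalizerMonoidHom ⟨n j, h1 j⟩ s)
    simp only [hθ, e, map_sub, sub_mul, mul_sub, Finset.sum_sub_distrib, o]
    push_cast
    ring
  simp only [e1, e2, map_mul, map_natCast, map_intCast, ← h.card, ← Finset.mul_sum] at k
  refine Int.cast_injective (α := ℂ) (mul_left_cancel₀ hm (mul_left_cancel₀ hm ?_))
  rw [Int.cast_sum, Int.cast_sum, ← k, Finset.mul_sum, Finset.mul_sum]
  exact Finset.sum_congr rfl fun χ _ => by push_cast; ring

end

theorem TID.exists_cd {G : Type*} [Group G] [Fintype G] {S : Subgroup G} [Fintype S] {m : ℕ}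
    (h : TID S m) : ∃ t a b, m = 11 * t + 1 ∧ CD S t a b := by
  classical
  obtain ⟨n, h1, n0, h2, h3, -⟩ := h.fusion
  have hc : ∀ a b : S, a * b = b * a := fun a b => Subtype.ext (h.comm a a.2 b b.2)
  letI := Fintype.ofFinite (S →* ℂˣ)
  let act : Fin 11 → (S →* ℂˣ) → (S →* ℂˣ) := fun k => chdA ⟨n k, h1 k⟩
  have a0 : ∀ f, act 0 f = f := fun f => MonoidHom.ext fun s => chdA_apply _ f s s (by simp [n0])
  have key : ∀ g : Subgroup.normalizer (S : Set G), ∃ l, ∀ f, chdA g f = act l f := fun g => by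
    obtain ⟨l, x, hx, e⟩ := h2 g g.2
    refine ⟨l, fun f => MonoidHom.ext fun s => chdA_apply g f s _ ?_⟩
    show n l * s * (n l)⁻¹ = _
    rw [e, mul_assoc (n l) x, h.comm x hx s s.2]
    group
  have cmp : ∀ g g' : Subgroup.normalizer (S : Set G), ∀ f, chdA g (chdA g' f) = chdA (g' * g) f := fun g g' f =>
    MonoidHom.ext fun s => by simp [chdA]
  have fr : ∀ f, f ≠ 1 → Function.Injective fun k => act k f := fun f hf k j e => by
    by_contra hkj
    let ck := S.normalizerMonoidHom ⟨n k, h1 k⟩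
    let cj := S.normalizerMonoidHom ⟨n j, h1 j⟩
    have inj : Function.Injective fun s => ck s * (cj s)⁻¹ := fun s s' e' => by
      have e1 : ck (s'⁻¹ * s) = cj (s'⁻¹ * s) := by
        rw [map_mul, map_mul, map_inv, map_inv, eq_mul_of_mul_inv_eq e']
        group
      by_contra hs
      refine hkj (h3 _ (s'⁻¹ * s).2 (fun e2 => hs ?_) (congrArg Subtype.val e1))
      exact (inv_mul_eq_one.1 (Subtype.ext e2)).symm
    refine hf (MonoidHom.ext fun s => ?_)
    obtain ⟨s, rfl⟩ := Finite.surjective_of_injective inj s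
    have : f (ck s) = f (cj s) := DFunLike.congr_fun e s
    simp [this]
  obtain ⟨t, rep, hb⟩ := chd_orb 1 act a0 (fun k f => by
      obtain ⟨l, hl⟩ := key (⟨n k, h1 k⟩ : Subgroup.normalizer (S : Set G))⁻¹
      exact ⟨l, by rw [← hl, cmp, mul_inv_cancel]; exact MonoidHom.ext fun s => by simp [chdA]⟩)
    (fun j k f => by
      obtain ⟨l, hl⟩ := key (⟨n k, h1 k⟩ * ⟨n j, h1 j⟩)
      exact ⟨l, (cmp _ _ f).trans (hl f)⟩) (fun k => rfl) fr
  have sm : ∀ {M : Type} [AddCommMonoid M] (F : (S →* ℂˣ) → M),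
      ∑ f, F f = F 1 + ∑ i, ∑ k, F (act k (rep i)) := fun F => by
    rw [← hb.sum_comp F, Fintype.sum_option, Fintype.sum_prod_type]
    rfl
  have r1 : ∀ i k, 1 ≠ act k (rep i) := fun i k e => nomatch hb.1 (a₁ := none) (a₂ := some (i, k)) e
  have r2 : ∀ i j k, rep i = act k (rep j) ↔ i = j ∧ k = 0 := fun i j k => ⟨fun e => by
    have := hb.1 (a₁ := some (i, 0)) (a₂ := some (j, k)) ((a0 _).trans e)
    simpa [eq_comm] using this, by rintro ⟨rfl, rfl⟩; exact (a0 _).symm⟩
  have r3 : ∀ i k, rep i ≠ act k 1 := fun i k e => r1 i 0 (by rw [a0, e]; rfl)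
  have hm : Nat.card S = 11 * t + 1 := by
    rw [← card_monoidHom_units_of_comm' hc, Nat.card_eq_fintype_card, ← Finset.card_univ, Finset.card_eq_sum_ones, sm]
    simp
    ring
  have ex : ∀ (χ : IrrCharacter G) (s : S), χ.1 s =
      chdM χ (1 : S →* ℂˣ) + ∑ i, chdM χ (rep i) * ∑ k, (act k (rep i) s : ℂ) := fun χ s => by
    rw [eq_sum_monoidHom_of_comm hc (fun s : S => χ.1 s) s, sm]
    simp only [chdM_eq, act, chdM_act, Finset.mul_sum]
    simp only [MonoidHom.one_apply, Units.val_one, mul_one]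
  have deg : ∀ χ : IrrCharacter G, χ.1 1 = ((chdM χ (1 : S →* ℂˣ) + 11 * ∑ i, chdM χ (rep i) : ℕ) : ℂ) := fun χ => by
    have := ex χ 1
    simp only [OneMemClass.coe_one, map_one, Units.val_one, Finset.sum_const, Finset.card_univ, Fintype.card_fin,
      nsmul_eq_mul, mul_one, ← Finset.sum_mul] at this
    rw [this]
    push_cast
    ring
  have q := h.chd_sq h1 h2 h3
  refine ⟨t, fun χ i => chdM χ (rep i), fun χ => chdM χ (1 : S →* ℂˣ), h.card ▸ hm, hm, fun i j hij => ?_, fun i => ?_,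
    deg, fun i j => ?_, fun χ => by simpa using chdM_sum χ (1 : S →* ℂˣ), fun χ => ?_, fun χ ha s hs => ?_,
    fun c d k1 k2 => ⟨fun i => chd_reg c d k1 k2 _, chd_reg c d k1 k2 _⟩⟩
  · rw [q]
    change ∑ k, ((if rep i = act k (rep i) then 1 else 0) - (if rep i = act k (rep j) then 1 else 0) -
      ((if rep j = act k (rep i) then 1 else 0) - (if rep j = act k (rep j) then 1 else 0)) : ℤ) = 2
    simp [r2, hij, hij.symm, Finset.sum_add_distrib]
  · rw [q]
    change ∑ k, ((if 1 = act k 1 then 1 else 0) - (if 1 = act k (rep i) then 1 else 0) -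
      ((if rep i = act k 1 then 1 else 0) - (if rep i = act k (rep i) then 1 else 0)) : ℤ) = 12
    have r4 : ∀ k, (1 = act k 1) = True := fun k => eq_true rfl
    simp [r1, r2, r3, r4, Finset.sum_add_distrib]
  · have k := chd_reg (S := S) (fun χ => chdM χ (1 : S →* ℂˣ) + 11 * ∑ i, chdM χ (rep i)) S.index
      (fun s _ s1 => by simp only [← deg]; exact sum_degree_mul_apply_of_ne s1)
      (by simp only [← deg, ← sq]; rw [sum_sq_degree, ← S.index_mul_card, Nat.cast_mul])
    simp only [mul_sub, Finset.sum_sub_distrib]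
    rw [sub_eq_zero]
    exact_mod_cast (k (rep i)).trans (k (rep j)).symm
  · rw [← card_mul_classInner (fun s : S => χ.1 s) (fun s : S => χ.1 s),
      (IsClassFunction.of_comm hc _).classInner_eq_sum,
      sum_irr_of_comm hc fun φ => classInner (fun s : S => χ.1 s) φ * conj (classInner (fun s : S => χ.1 s) φ), sm]
    simp only [chdM_eq, act, chdM_act, map_natCast, Finset.sum_const, Finset.card_univ, Fintype.card_fin,
      nsmul_eq_mul, ← Finset.mul_sum]
    push_cast
    simp only [sq]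
  · have k1 := ex χ ⟨s, hs⟩
    have k2 := ex χ 1
    simp only [ha, Nat.cast_zero, zero_mul, Finset.sum_const_zero, add_zero] at k1 k2
    exact k1.trans k2.symm

end Cfsg.Agent.S11
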