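/-
Character degrees `a m - c` do not divide the order of `GL₁₁(q)`: the reduction.
-/
import Mathlib
import Cfsg.Agent.S7.NT
import Cfsg.Agent.S11.NTc

set_option autoImplicit false

namespace Cfsg.Agent.S11.NT

/-- Evaluation of a coefficient list. -/
def ev (q : ℤ) : List ℤ → ℤ
  | [] => 0
  | x :: l => x + q * ev q l

/-- Sum of coefficient lists. -/
def padd : List ℤ → List ℤ → List ℤ
  | [], m => m
  | x :: l, [] => x :: l
  | x :: l, y :: m => (x + y) :: padd l m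

/-- Product of coefficient lists. -/
def pmul : List ℤ → List ℤ → List ℤ
  | [], _ => []
  | x :: l, m => padd (m.map (x * ·)) (0 :: pmul l m)

theorem ev_padd (q : ℤ) : ∀ l m, ev q (padd l m) = ev q l + ev q m
  | [], m => by simp [padd, ev]
  | x :: l, [] => by simp [padd, ev]
  | x :: l, y :: m => by rw [padd, ev, ev, ev, ev_padd q l m]; ring

theorem ev_map (q x : ℤ) : ∀ m : List ℤ, ev q (m.map (x * ·)) = x * ev q m
  | [] => by simp [ev]
  | y :: m => by rw [List.map_cons, ev, ev, ev_map q x m]; ring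

theorem ev_pmul (q : ℤ) : ∀ l m, ev q (pmul l m) = ev q l * ev q m
  | [], m => by simp [pmul, ev]
  | x :: l, m => by rw [pmul, ev_padd, ev_map, ev, ev, ev_pmul q l m]; ring

theorem ev_zero (q : ℤ) : ∀ l : List ℤ, l.all (· == 0) = true → ev q l = 0
  | [], _ => rfl
  | x :: l, h => by
    simp only [List.all_cons, Bool.and_eq_true, beq_iff_eq] at h
    rw [ev, h.1, ev_zero q l h.2]; simp

/-- Bezout certificates. -/
def cok (N : List ℤ) : List (List ℤ × ℕ) → List (ℤ × List ℤ × List ℤ) → Bool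
  | [], _ => true
  | _ :: _, [] => false
  | P :: L, e :: M => (padd [-e.1] (padd (pmul e.2.1 N) (pmul e.2.2 P.1))).all (· == 0) && cok N L M

/-- The product of the polynomial factors. -/
def pr1 (q : ℤ) : List (List ℤ × ℕ) → ℤ
  | [] => 1
  | P :: L => ev q P.1 ^ P.2 * pr1 q L

/-- The product of the constants. -/
def pr2 : List (List ℤ × ℕ) → List (ℤ × List ℤ × List ℤ) → ℤ
  | [], _ => 1
  | _ :: _, [] => 1
  | P :: L, e :: M => e.1 ^ P.2 * pr2 L M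

theorem redL {E q : ℤ} {N : List ℤ} (hE : E ∣ ev q N) : ∀ (L : List (List ℤ × ℕ))
    (M : List (ℤ × List ℤ × List ℤ)), cok N L M = true → ∀ {Y : ℤ}, E ∣ pr1 q L * Y → E ∣ pr2 L M * Y
  | [], _, _, _, h => h
  | _ :: _, [], h, _, _ => by simp [cok] at h
  | P :: L, e :: M, h, Y, hY => by
    rw [cok, Bool.and_eq_true] at h
    have k := ev_zero q _ h.1
    rw [ev_padd, ev_padd, ev_pmul, ev_pmul, ev, ev] at k
    rw [pr1, mul_assoc] at hY
    have h1 := S7.NT.red hE (k := e.1) (ev q e.2.1) (ev q e.2.2) (by linarith) _ hY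
    rw [mul_left_comm] at h1
    rw [pr2, mul_assoc, mul_left_comm]
    exact redL hE L M h.2 h1

/-- The cyclotomic factors of the order of `GL₁₁(q)`. -/
def PL : List (List ℤ × ℕ) := [([-1, 1], 11), ([1, 1], 5), ([1, 1, 1], 3), ([1, 0, 1], 2), ([1, 1, 1, 1, 1], 2),
  ([1, -1, 1], 1), ([1, 1, 1, 1, 1, 1, 1], 1), ([1, 0, 0, 0, 1], 1), ([1, 0, 0, 1, 0, 0, 1], 1),
  ([1, -1, 1, -1, 1], 1), ([1, 1, 1, 1, 1, 1, 1, 1, 1, 1, 1], 1)]

theorem prod {q : ℕ} (h : 1 ≤ q) : ((∏ i : Fin 11, (q ^ 11 - q ^ (i : ℕ)) : ℕ) : ℤ) = (q : ℤ) ^ 55 * pr1 q PL := by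
  rw [Nat.cast_prod, Finset.prod_congr rfl fun i _ => Nat.cast_sub (Nat.pow_le_pow_right h i.2.le),
    Fin.prod_univ_eq_prod_range (fun i => ((q ^ 11 : ℕ) : ℤ) - (q ^ i : ℕ)) 11]
  simp only [Finset.prod_range_succ, Finset.prod_range_zero, PL, pr1, ev]
  push_cast
  generalize (q : ℤ) = x
  ring

theorem pp {q : ℕ} (hq : IsPrimePow q) {E Y u : ℤ} (h : ∀ d : ℤ, d ∣ E → d ∣ q → d ∣ u) (u0 : 0 < u) (uq : u < q)
    (hY : E ∣ (q : ℤ) ^ 55 * Y) : E ∣ u * Y := by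
  obtain ⟨p, k, hp, -, rfl⟩ := (isPrimePow_nat_iff q).1 hq
  have h1 : E.natAbs ∣ (p ^ k) ^ 55 * Y.natAbs := by
    simpa [Int.natAbs_mul, Int.natAbs_pow] using Int.natAbs_dvd_natAbs.2 hY
  have h2 := dvd_gcd_mul_of_dvd_mul h1
  obtain ⟨j, -, hj⟩ := (Nat.dvd_prime_pow hp).1
    (by rw [pow_mul]; exact gcd_dvd_right _ _ : gcd E.natAbs ((p ^ k) ^ 55) ∣ p ^ (k * 55))
  have h3 : ((p ^ j : ℕ) : ℤ) ∣ E := Int.natCast_dvd.2 (hj ▸ gcd_dvd_left _ _)
  rw [hj] at h2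
  rcases le_total j k with l | l
  · refine (Int.natAbs_dvd.1 ((Int.natCast_dvd_natCast.2 h2).trans ?_))
    rw [Nat.cast_mul]
    exact mul_dvd_mul (h _ h3 (Int.natCast_dvd_natCast.2 (pow_dvd_pow p l))) (Int.natAbs_dvd.2 dvd_rfl)
  · exact absurd (Int.le_of_dvd u0 (h _ ((Int.natCast_dvd_natCast.2 (pow_dvd_pow p l)).trans h3) dvd_rfl))
      (not_le.2 uq)

theorem core {q : ℕ} (hq : IsPrimePow q) (q34 : 34 ≤ q) {E x u C : ℤ} {N : List ℤ} {j : ℕ}
    {M : List (ℤ × List ℤ × List ℤ)} (hN : 11 * E = ev q (x :: N)) (cop : ¬ 11 ∣ E) (hu : u ∣ x ∧ x ∣ u)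
    (u0 : 0 < u ∧ u < 34) (hM : cok (x :: N) PL M = true ∧ pr2 PL M * u = 11 ^ j * C)
    (h : E ∣ ((∏ i : Fin 11, (q ^ 11 - q ^ (i : ℕ)) : ℕ) : ℤ)) : ev q (x :: N) ∣ 11 * C := by
  have hE : E ∣ ev q (x :: N) := hN ▸ dvd_mul_left _ _
  rw [prod hq.one_lt.le] at h
  have a0 := pp hq (u := u) (fun d d1 d2 => by
    have k := d1.trans hE
    rw [ev] at k
    exact ((dvd_add_left (d2.mul_right _)).1 k).trans hu.2) u0.1 (by omega) h
  rw [mul_comm] at a0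
  have a1 := redL hE PL M hM.1 a0
  rw [hM.2] at a1
  rw [← hN]
  refine mul_dvd_mul_left 11 (IsCoprime.dvd_of_dvd_mul_left (IsCoprime.pow_right ?_) a1)
  exact ((Int.prime_iff_natAbs_prime.2 (by norm_num) : Prime (11 : ℤ)).irreducible.coprime_iff_not_dvd.2 cop).symm

end Cfsg.Agent.S11.NT
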